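import Cfsg.Agent.ExtraspecialOut.Cover
import Cfsg.Agent.QuadTwo.Forms
import Cfsg.Agent.Forms.SymplecticBasis

/-!
# Plus and minus type extraspecial `2`-groups: coordinates
-/

set_option autoImplicit false

open scoped commutatorElement

namespace CfsgLib.ExtraspecialOut

open CfsgLib.QuadTwo

universe u

variable {E : Type u} [Group E] [Finite E]

/-- Transport of a cover along a linear change of coordinates. -/
def Cover.transport {ι κ : Type} {Q : (ι → ZMod 2) → ZMod 2} {Q' : (κ → ZMod 2) → ZMod 2}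
    (C : Cover E ι Q) (g : (ι → ZMod 2) ≃ₗ[ZMod 2] (κ → ZMod 2)) (hg : ∀ v, Q v = Q' (g v)) :
    Cover E κ Q' where
  π x := g (C.π x)
  map_mul x y := by rw [C.map_mul, _root_.map_add]
  surj := g.surjective.comp C.surj
  ker x := by rw [LinearEquiv.map_eq_zero_iff, C.ker]
  quad x := by rw [← hg, C.quad]

theorem card_center_index {n : ℕ} (hE : Cfsg.IsExtraspecial 2 E)
    (hcard : Nat.card E = 2 ^ (2 * n + 1)) :
    Nat.card (E ⧸ Subgroup.center E) = 2 ^ (2 * n) := by
  have h := Subgroup.card_mul_index (Subgroup.center E)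
  rw [hE.2, hcard, pow_succ', Subgroup.index_eq_card] at h
  omega

/-- Every extraspecial `2`-group has coordinates with a form polarising to the standard one. -/
theorem exists_cover (hE : Cfsg.IsExtraspecial 2 E) {n : ℕ}
    (hcard : Nat.card E = 2 ^ (2 * n + 1)) :
    ∃ a : Vec n, Nonempty (Cover E (Fin n ⊕ Fin n) (qf a)) := by
  classical
  haveI : Fact (Nat.Prime 2) := ⟨Nat.prime_two⟩
  set Z := Subgroup.center E with hZ
  have hcz := CfsgLib.ExtraspecialBasic.commutator_mem_center hE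
  have hsq := CfsgLib.ExtraspecialBasic.pow_mem_center hE
  obtain ⟨zc, hz1, hzu⟩ := (Nat.card_eq_two_iff' (⟨1, one_mem _⟩ : Z)).1 hE.2
  set z : E := (zc : E) with hzdef
  have hzne : z ≠ 1 := fun h => hz1 (Subtype.ext h)
  have hzc : ∀ w ∈ Z, w = 1 ∨ w = z := fun w hw => by
    by_cases h : w = 1
    · exact Or.inl h
    · exact Or.inr (congrArg Subtype.val (hzu ⟨w, hw⟩ fun e => h (congrArg Subtype.val e)))
  have hzz : z * z = 1 := by
    rw [← pow_two]; exact CfsgLib.ExtraspecialBasic.pow_center_eq_one hE zc.2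
  let e : E → ZMod 2 := fun w => if w = 1 then 0 else 1
  have he0 : ∀ w, e w = 0 ↔ w = 1 := fun w => by by_cases h : w = 1 <;> simp [e, h]
  have he : ∀ a ∈ Z, ∀ b ∈ Z, e (a * b) = e a + e b := by
    intro a ha b hb
    rcases hzc a ha with rfl | rfl <;> rcases hzc b hb with rfl | rfl <;>
      simp [e, hzne, hzz, CharTwo.add_self_eq_zero]
  -- the quotient
  have hcomm : ∀ u v : E ⧸ Z, u * v = v * u := by
    intro u v
    obtain ⟨x, rfl⟩ := QuotientGroup.mk'_surjective Z u
    obtain ⟨y, rfl⟩ := QuotientGroup.mk'_surjective Z v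
    rw [← commutatorElement_eq_one_iff_mul_comm, ← map_commutatorElement]
    exact (QuotientGroup.eq_one_iff _).2 (hcz x y)
  letI : CommGroup (E ⧸ Z) := { (inferInstance : Group (E ⧸ Z)) with mul_comm := hcomm }
  let V := Additive (E ⧸ Z)
  letI : Module (ZMod 2) V := AddCommGroup.zmodModule fun v => by
    obtain ⟨x, hx⟩ := QuotientGroup.mk'_surjective Z (Additive.toMul v)
    refine Additive.toMul.injective ?_
    rw [toMul_nsmul, toMul_zero, ← hx, ← map_pow]
    exact (QuotientGroup.eq_one_iff _).2 (hsq x)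
  haveI : Finite V := inferInstanceAs (Finite (E ⧸ Z))
  let mk : E → V := fun x => Additive.ofMul (QuotientGroup.mk' Z x)
  have hmk : ∀ x y, mk (x * y) = mk x + mk y := fun x y => by
    show Additive.ofMul _ = _
    rw [map_mul]; rfl
  have hmks : Function.Surjective mk := Additive.ofMul.surjective.comp (QuotientGroup.mk'_surjective Z)
  have hmk0 : ∀ x, mk x = 0 ↔ x ∈ Z := fun x =>
    ⟨fun h => (QuotientGroup.eq_one_iff x).1 (Additive.ofMul.injective h),
      fun h => congrArg Additive.ofMul ((QuotientGroup.eq_one_iff x).2 h)⟩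
  have hbl : ∀ a b c : E, e ⁅a * b, c⁆ = e ⁅a, c⁆ + e ⁅b, c⁆ := fun a b c => by
    have h : ⁅a * b, c⁆ = a * ⁅b, c⁆ * a⁻¹ * ⁅a, c⁆ := by simp only [commutatorElement_def]; group
    rw [h, Subgroup.mem_center_iff.1 (hcz b c) a, mul_inv_cancel_right, he _ (hcz b c) _ (hcz a c),
      add_comm]
  have hsymm : ∀ a b : E, e ⁅a, b⁆ = e ⁅b, a⁆ := fun a b => by
    rw [← commutatorElement_inv b a]
    simp only [e, inv_eq_one]
  have hwd : ∀ a z' c : E, z' ∈ Z → e ⁅a * z', c⁆ = e ⁅a, c⁆ := fun a z' c hz' => by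
    rw [hbl, (he0 _).2 (commutatorElement_eq_one_iff_mul_comm.2
      (Subgroup.mem_center_iff.1 hz' c).symm), add_zero]
  let s : V → E := Function.surjInv hmks
  have hs : ∀ v, mk (s v) = v := Function.surjInv_eq hmks
  have hmod : ∀ x : E, ∃ z' ∈ Z, s (mk x) = x * z' := fun x => by
    refine ⟨x⁻¹ * s (mk x), ?_, by rw [mul_inv_cancel_left]⟩
    have h := hs (mk x)
    exact QuotientGroup.eq.1 (Additive.ofMul.injective h.symm)
  let β : V → V → ZMod 2 := fun u v => e ⁅s u, s v⁆
  have hβ : ∀ x y : E, β (mk x) (mk y) = e ⁅x, y⁆ := fun x y => by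
    obtain ⟨z1, h1, e1⟩ := hmod x
    obtain ⟨z2, h2, e2⟩ := hmod y
    show e ⁅s (mk x), s (mk y)⁆ = _
    rw [e1, e2, hwd _ _ _ h1, hsymm, hwd _ _ _ h2, hsymm]
  let B : LinearMap.BilinForm (ZMod 2) V := AddMonoidHom.toZModLinearMap 2
    (AddMonoidHom.mk' (fun u => AddMonoidHom.toZModLinearMap 2
      (AddMonoidHom.mk' (β u) fun v w => by
        obtain ⟨x, rfl⟩ := hmks u; obtain ⟨y, rfl⟩ := hmks v; obtain ⟨y', rfl⟩ := hmks w
        rw [← hmk, hβ, hβ, hβ, hsymm, hbl, hsymm y, hsymm y'])) fun u u' => by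
      ext v
      obtain ⟨x, rfl⟩ := hmks u; obtain ⟨x', rfl⟩ := hmks u'; obtain ⟨y, rfl⟩ := hmks v
      show β (mk x + mk x') (mk y) = β (mk x) (mk y) + β (mk x') (mk y)
      rw [← hmk, hβ, hβ, hβ, hbl])
  have hB : ∀ x y, B (mk x) (mk y) = e ⁅x, y⁆ := hβ
  have hA : B.IsAlt := fun v => by
    obtain ⟨x, rfl⟩ := hmks v
    rw [hB, commutatorElement_self]
    exact (he0 1).2 rfl
  have hN : B.Nondegenerate := by
    have hleft : ∀ v, (∀ w, B v w = 0) → v = 0 := fun v hv => by
      obtain ⟨x, rfl⟩ := hmks v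
      refine (hmk0 x).2 (Subgroup.mem_center_iff.2 fun y => ?_)
      have h := (he0 _).1 ((hB x y).symm.trans (hv (mk y)))
      exact (commutatorElement_eq_one_iff_mul_comm.1 h).symm
    exact ⟨hleft, fun v hv => hleft v fun w => by
      obtain ⟨x, rfl⟩ := hmks v; obtain ⟨y, rfl⟩ := hmks w
      rw [hB, hsymm, ← hB]; exact hv (mk y)⟩
  obtain ⟨m, b, b1, b2, b3⟩ := CfsgLib.Forms.exists_symplectic_basis_nondeg B hA hN
  have hmn : m = n := by
    have h1 := card_center_index hE hcard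
    rw [← hZ] at h1
    have h2 : Nat.card V = Nat.card (Vec m) := Nat.card_congr b.equivFun.toEquiv
    rw [show Nat.card V = Nat.card (E ⧸ Z) from rfl, h1] at h2
    simp only [Nat.card_fun, Nat.card_sum, Nat.card_fin, Nat.card_zmod] at h2
    have := Nat.pow_right_injective le_rfl h2
    omega
  subst hmn
  have hpol : ∀ u v, B u v = pol (b.equivFun u) (b.equivFun v) := by
    intro u v
    have b4 : ∀ i j, B (b (Sum.inr i)) (b (Sum.inl j)) = if j = i then 1 else 0 := fun i j => by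
      rw [← LinearMap.IsAlt.neg hA (b (Sum.inl j)), b1, CharTwo.neg_eq]
    have key : ∀ c d : Vec m, B (∑ i, c i • b i) (∑ i, d i • b i) = pol c d := fun c d => by
      simp [Fintype.sum_sum_type, map_sum, b1, b2, b3, b4, pol, Finset.sum_add_distrib, mul_comm]
    rw [← key, b.sum_equivFun, b.sum_equivFun]
  -- the squaring form
  let π : E → Vec m := fun x => b.equivFun (mk x)
  let q : Vec m → ZMod 2 := fun v => e ((s (b.equivFun.symm v)) ^ 2)
  have hq : ∀ x, q (π x) = e (x ^ 2) := fun x => by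
    show e ((s (b.equivFun.symm (b.equivFun (mk x)))) ^ 2) = _
    rw [LinearEquiv.symm_apply_apply]
    obtain ⟨z', h', e'⟩ := hmod x
    rw [e', (show Commute x z' from Subgroup.mem_center_iff.1 h' x).mul_pow,
      CfsgLib.ExtraspecialBasic.pow_center_eq_one hE h', mul_one]
  have hpolar : IsPolar q := by
    intro u v
    obtain ⟨x, hx⟩ := hmks (b.equivFun.symm u)
    obtain ⟨y, hy⟩ := hmks (b.equivFun.symm v)
    have hu : u = π x := by show u = b.equivFun (mk x); rw [hx, LinearEquiv.apply_symm_apply]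
    have hv : v = π y := by show v = b.equivFun (mk y); rw [hy, LinearEquiv.apply_symm_apply]
    rw [plus_add, hu, hv, show π x + π y = π (x * y) by
      show _ = b.equivFun (mk (x * y)); rw [hmk, map_add], hq, hq, hq,
      show pol (π x) (π y) = e ⁅x, y⁆ by rw [← hB, hpol]]
    have h : (x * y) ^ 2 = x ^ 2 * y ^ 2 * ⁅y⁻¹, x⁻¹⁆ :=
      calc (x * y) ^ 2 = x * (x * y * ⁅y⁻¹, x⁻¹⁆) * y := by
            simp only [pow_two, commutatorElement_def]; group
        _ = x * x * y * (⁅y⁻¹, x⁻¹⁆ * y) := by simp only [mul_assoc]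
        _ = x * x * y * (y * ⁅y⁻¹, x⁻¹⁆) := by
            rw [Subgroup.mem_center_iff.1 (hcz y⁻¹ x⁻¹) y]
        _ = x ^ 2 * y ^ 2 * ⁅y⁻¹, x⁻¹⁆ := by simp only [pow_two, mul_assoc]
    rw [h, he _ (mul_mem (hsq x) (hsq y)) _ (hcz _ _), he _ (hsq x) _ (hsq y)]
    have hinv : ∀ w, mk w⁻¹ = mk w := fun w => by
      rw [eq_comm, ← sub_eq_zero, sub_eq_add_neg]
      have h2 := hmk w w⁻¹
      rw [mul_inv_cancel, show mk 1 = 0 from (hmk0 1).2 (one_mem _)] at h2
      rw [eq_neg_of_add_eq_zero_right h2.symm, neg_neg, ← two_smul (ZMod 2),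
        show (2 : ZMod 2) = 0 from rfl, zero_smul]
    rw [← hB y⁻¹, hinv, hinv, hB, hsymm]
    ring
  obtain ⟨a, ha⟩ := exists_qf q hpolar
  refine ⟨a, ⟨{
    π := π
    map_mul := fun x y => by
      show b.equivFun (mk (x * y)) = _
      rw [hmk, map_add]
    surj := b.equivFun.surjective.comp hmks
    ker := fun x => by
      show b.equivFun (mk x) = 0 ↔ _
      rw [LinearEquiv.map_eq_zero_iff, hmk0]
    quad := fun x => by rw [ha, hq, he0] }⟩⟩

/-- The outer automorphism group of an extraspecial `2`-group. -/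
theorem out_cases (hE : Cfsg.IsExtraspecial 2 E) {n : ℕ} (hn : 1 ≤ n)
    (hcard : Nat.card E = 2 ^ (2 * n + 1)) :
    ((∃ A : Subgroup E, Cfsg.IsElementaryAbelian 2 A ∧ Nat.card ↥A = 2 ^ (n + 1)) ∧
      Nonempty (Cfsg.Out E ≃* Cfsg.isometryGroup (ZMod 2) (Cfsg.quadFormPlus n (ZMod 2)))) ∨
    ((¬ ∃ A : Subgroup E, Cfsg.IsElementaryAbelian 2 A ∧ Nat.card ↥A = 2 ^ (n + 1)) ∧
      Nonempty (Cfsg.Out E ≃* Cfsg.isometryGroup (ZMod 2) (Cfsg.quadFormMinus (n - 1) (ZMod 2) 1 1))) := by
  classical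
  haveI : Fact (Nat.Prime 2) := ⟨Nat.prime_two⟩
  obtain ⟨a, ⟨C⟩⟩ := exists_cover hE hcard
  obtain ⟨m, rfl⟩ : ∃ m, n = m + 1 := ⟨n - 1, by omega⟩
  rcases zmod_two_cases (Cfsg.quadFormPlus (m + 1) (ZMod 2) a) with h | h
  · left
    let C' := C.transport (shear a) (plus_shear a h)
    refine ⟨?_, C'.nonempty_out_equiv hE⟩
    obtain ⟨U, hU, hd⟩ := plus_exists (K := ZMod 2) (m + 1)
    let A : Subgroup E :=
      { carrier := {x | C'.π x ∈ U}
        one_mem' := by show C'.π 1 ∈ U; rw [C'.map_one]; exact U.zero_mem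
        mul_mem' := fun {x y} hx hy => by
          show C'.π (x * y) ∈ U
          rw [C'.map_mul]; exact U.add_mem hx hy
        inv_mem' := fun {x} hx => by
          show C'.π x⁻¹ ∈ U
          rw [C'.map_inv]; exact hx }
    have hA2 : ∀ x ∈ A, x ^ 2 = 1 := fun x hx => (C'.quad x).1 (hU _ hx)
    refine ⟨A, ⟨⟨⟨fun x y => ?_⟩⟩, fun x hx => hA2 x hx⟩, ?_⟩
    · have hinv : ∀ w : A, w⁻¹ = w := fun w => inv_eq_of_mul_eq_one_right
        (Subtype.ext (by rw [Subgroup.coe_mul, ← pow_two]; exact hA2 w w.2))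
      rw [← hinv (x * y), mul_inv_rev, hinv, hinv]
    · let p : A →* Multiplicative U :=
        MonoidHom.mk' (fun x => Multiplicative.ofAdd ⟨C'.π x, x.2⟩) fun x y => by
          rw [← ofAdd_add]
          exact congrArg Multiplicative.ofAdd (Subtype.ext (C'.map_mul x y))
      have hsurj : Function.Surjective p := fun u => by
        obtain ⟨x, hx⟩ := C'.surj (Multiplicative.toAdd u : U)
        exact ⟨⟨x, by show C'.π x ∈ U; rw [hx]; exact Subtype.prop _⟩,
          Multiplicative.toAdd.injective (Subtype.ext hx)⟩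
      have hker : p.ker = (Subgroup.center E).subgroupOf A := by
        ext x
        rw [MonoidHom.mem_ker, Subgroup.mem_subgroupOf, ← C'.ker]
        exact ⟨fun h => congrArg Subtype.val (congrArg Multiplicative.toAdd h),
          fun h => Multiplicative.toAdd.injective (Subtype.ext h)⟩
      have hle : Subgroup.center E ≤ A := fun x hx => by
        show C'.π x ∈ U; rw [(C'.ker x).2 hx]; exact U.zero_mem
      have h1 := Subgroup.card_mul_index p.ker
      rw [Subgroup.index_ker, MonoidHom.range_eq_top.2 hsurj, Subgroup.card_top,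
        Nat.card_congr Multiplicative.toAdd, Module.natCard_eq_pow_finrank (K := ZMod 2) (V := U), hd,
        Nat.card_zmod, hker, Nat.card_congr (Subgroup.subgroupOfEquivOfLe hle).toEquiv, hE.2] at h1
      rw [← h1]
      ring
  · right
    obtain ⟨g, hg⟩ := exists_minus a h
    let C' := C.transport g hg
    refine ⟨?_, C'.nonempty_out_equiv hE⟩
    rintro ⟨A, ⟨hAc, hA2⟩, hAcard⟩
    let U₀ : AddSubgroup ((Fin m ⊕ Fin m) ⊕ Fin 2 → ZMod 2) :=
      { carrier := C'.π '' A
        zero_mem' := ⟨1, one_mem _, C'.map_one⟩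
        add_mem' := by
          rintro _ _ ⟨x, hx, rfl⟩ ⟨y, hy, rfl⟩
          exact ⟨x * y, mul_mem hx hy, C'.map_mul x y⟩
        neg_mem' := by
          rintro _ ⟨x, hx, rfl⟩
          exact ⟨x, hx, funext fun i => (CharTwo.neg_eq _).symm⟩ }
    let U := AddSubgroup.toZModSubmodule 2 U₀
    have h1 : Module.finrank (ZMod 2) U ≤ m := minus_finrank_le m 1 1 anisotropic_two U (by
      rintro _ ⟨x, hx, rfl⟩
      exact (C'.quad x).2 (hA2 x hx))
    let p : A →* Multiplicative U :=
      MonoidHom.mk' (fun x => Multiplicative.ofAdd ⟨C'.π x, x, x.2, rfl⟩) fun x y => by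
        rw [← ofAdd_add]
        exact congrArg Multiplicative.ofAdd (Subtype.ext (C'.map_mul x y))
    have hsurj : Function.Surjective p := fun u => by
      obtain ⟨x, hx, hxu⟩ := (Multiplicative.toAdd u : U).2
      exact ⟨⟨x, hx⟩, Multiplicative.toAdd.injective (Subtype.ext hxu)⟩
    have hker : p.ker ≤ (Subgroup.center E).subgroupOf A := fun x hx => by
      rw [Subgroup.mem_subgroupOf, ← C'.ker]
      exact congrArg Subtype.val (congrArg Multiplicative.toAdd hx)
    have h2 : Nat.card p.ker ≤ 2 := by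
      refine le_trans (Subgroup.card_le_of_le hker) ?_
      rw [← hE.2]
      exact Nat.card_le_card_of_injective (fun x => (⟨((x : A) : E), x.2⟩ : Subgroup.center E))
        fun x y hxy => Subtype.ext (Subtype.ext (congrArg (fun w : Subgroup.center E => (w : E)) hxy))
    have h3 := Subgroup.card_mul_index p.ker
    rw [Subgroup.index_ker, MonoidHom.range_eq_top.2 hsurj, Subgroup.card_top,
      Nat.card_congr Multiplicative.toAdd, Module.natCard_eq_pow_finrank (K := ZMod 2) (V := U),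
      Nat.card_zmod, hAcard] at h3
    have h4 : Nat.card p.ker * 2 ^ Module.finrank (ZMod 2) U ≤ 2 * 2 ^ m :=
      Nat.mul_le_mul h2 (Nat.pow_le_pow_right (by norm_num) h1)
    rw [h3, ← pow_succ'] at h4
    exact absurd ((Nat.pow_le_pow_iff_right (le_refl 2)).1 h4) (by omega)

end CfsgLib.ExtraspecialOut
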