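import Mathlib
import Cfsg.Prelude.Def_Classical
import Cfsg.Prelude.Def_KGroupFacts
import Cfsg.Agent.ExtraspecialBasic.Order

/-!
# Outer automorphisms of extraspecial `2`-groups

Given coordinates on `E / Z(E)` in which a form `Q` records which elements are involutions, the
automorphisms of `E` induce exactly the isometries of `Q`, with kernel the inner automorphisms.
-/

set_option autoImplicit false

open scoped commutatorElement

namespace CfsgLib.ExtraspecialOut

universe u

variable {E : Type u} [Group E]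

theorem zmod_two_cases : ∀ a : ZMod 2, a = 0 ∨ a = 1 := by decide

/-- Coordinates on `E / Z(E)` adapted to a form `Q`. -/
structure Cover (E : Type u) [Group E] (ι : Type) (Q : (ι → ZMod 2) → ZMod 2) where
  π : E → ι → ZMod 2
  map_mul : ∀ x y, π (x * y) = π x + π y
  surj : Function.Surjective π
  ker : ∀ x, π x = 0 ↔ x ∈ Subgroup.center E
  quad : ∀ x, Q (π x) = 0 ↔ x ^ 2 = 1

variable {ι : Type} {Q : (ι → ZMod 2) → ZMod 2}

namespace Cover

variable (C : Cover E ι Q)

theorem map_one : C.π 1 = 0 := (C.ker 1).2 (one_mem _)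

theorem map_inv (x : E) : C.π x⁻¹ = C.π x := by
  have h := C.map_mul x⁻¹ x
  rw [inv_mul_cancel, C.map_one] at h
  rw [eq_neg_of_add_eq_zero_left h.symm]
  exact funext fun i => CharTwo.neg_eq _

theorem eq_iff {x y : E} : C.π x = C.π y ↔ x⁻¹ * y ∈ Subgroup.center E := by
  rw [← C.ker, C.map_mul, C.map_inv]
  constructor
  · intro h
    rw [h]
    exact funext fun i => CharTwo.add_self_eq_zero _
  · intro h
    rw [eq_neg_of_add_eq_zero_left h]
    exact funext fun i => CharTwo.neg_eq _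

/-- The linear map induced by an automorphism. -/
noncomputable def lin (α : MulAut E) : (ι → ZMod 2) →ₗ[ZMod 2] (ι → ZMod 2) :=
  AddMonoidHom.toZModLinearMap 2
    (AddMonoidHom.mk' (fun v => C.π (α (Function.surjInv C.surj v))) fun v w => by
      rw [← C.map_mul, ← _root_.map_mul, C.eq_iff, ← _root_.map_inv, ← _root_.map_mul]
      rw [← Subgroup.Characteristic.fixed (H := Subgroup.center E) inferInstance α⁻¹]
      show α⁻¹ (α _) ∈ Subgroup.center E
      rw [show ∀ z, α⁻¹ (α z) = z from α.symm_apply_apply, ← C.eq_iff, C.map_mul,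
        Function.surjInv_eq C.surj, Function.surjInv_eq C.surj, Function.surjInv_eq C.surj])

theorem lin_apply (α : MulAut E) (x : E) : C.lin α (C.π x) = C.π (α x) := by
  show C.π (α (Function.surjInv C.surj (C.π x))) = C.π (α x)
  rw [C.eq_iff, ← _root_.map_inv, ← _root_.map_mul,
    ← Subgroup.Characteristic.fixed (H := Subgroup.center E) inferInstance α⁻¹]
  show α⁻¹ (α _) ∈ Subgroup.center E
  rw [show ∀ z, α⁻¹ (α z) = z from α.symm_apply_apply, ← C.eq_iff, Function.surjInv_eq C.surj]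

/-- The representation of `Aut E` on `E / Z(E)`. -/
noncomputable def linHom : MulAut E →* Module.End (ZMod 2) (ι → ZMod 2) where
  toFun := C.lin
  map_one' := LinearMap.ext fun v => by
    obtain ⟨x, rfl⟩ := C.surj v
    rw [C.lin_apply]
    rfl
  map_mul' α β := LinearMap.ext fun v => by
    obtain ⟨x, rfl⟩ := C.surj v
    rw [C.lin_apply]
    show _ = C.lin α (C.lin β (C.π x))
    rw [C.lin_apply, C.lin_apply]
    rfl

variable [Fintype ι] [DecidableEq ι]

/-- The matrix of an automorphism. -/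
noncomputable def matHom : MulAut E →* GL ι (ZMod 2) :=
  Matrix.GeneralLinearGroup.toLin.symm.toMonoidHom.comp C.linHom.toHomUnits

theorem matHom_mulVec (α : MulAut E) (v : ι → ZMod 2) :
    ((C.matHom α : GL ι (ZMod 2)) : Matrix ι ι (ZMod 2)).mulVec v = C.lin α v := by
  show (Matrix.toLinAlgEquiv'.symm (C.lin α)).mulVec v = _
  rw [← Matrix.toLinAlgEquiv'_apply, AlgEquiv.apply_symm_apply]

theorem matHom_mem (α : MulAut E) : C.matHom α ∈ Cfsg.isometryGroup (ZMod 2) Q := by
  intro u v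
  show Q (((C.matHom α : GL ι (ZMod 2)) : Matrix ι ι (ZMod 2)).mulVec u) = Q u
  obtain ⟨x, rfl⟩ := C.surj u
  rw [matHom_mulVec, lin_apply]
  have h : (α x) ^ 2 = 1 ↔ x ^ 2 = 1 := by rw [← _root_.map_pow, map_eq_one_iff _ α.injective]
  rw [← C.quad, ← C.quad] at h
  exact (by decide : ∀ a b : ZMod 2, (a = 0 ↔ b = 0) → a = b) _ _ h

/-- The map to the isometry group. -/
noncomputable def isoHom : MulAut E →* Cfsg.isometryGroup (ZMod 2) Q :=
  C.matHom.codRestrict _ C.matHom_mem

theorem mem_ker_iff (α : MulAut E) :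
    α ∈ C.isoHom.ker ↔ ∀ x, x⁻¹ * α x ∈ Subgroup.center E := by
  rw [MonoidHom.mem_ker]
  constructor
  · intro h x
    rw [← C.eq_iff, ← C.lin_apply α x, ← C.matHom_mulVec α (C.π x)]
    have h' : C.matHom α = 1 := congrArg Subtype.val h
    rw [h', Units.val_one, Matrix.one_mulVec]
  · intro h
    refine Subtype.ext (Units.ext (Matrix.ext_iff_mulVec.2 fun v => ?_))
    obtain ⟨x, rfl⟩ := C.surj v
    show ((C.matHom α : GL ι (ZMod 2)) : Matrix ι ι (ZMod 2)).mulVec (C.π x) = _
    rw [C.matHom_mulVec, C.lin_apply, ← (C.eq_iff.2 (h x))]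
    simp

theorem ker_eq [Finite E] (hE : Cfsg.IsExtraspecial 2 E) : C.isoHom.ker = Cfsg.Inn E := by
  classical
  haveI : Fact (Nat.Prime 2) := ⟨Nat.prime_two⟩
  have hle : Cfsg.Inn E ≤ C.isoHom.ker := by
    rintro _ ⟨g, rfl⟩
    rw [mem_ker_iff]
    intro x
    have h : x⁻¹ * (MulAut.conj g x) = ⁅x⁻¹, g⁆ := by
      simp [commutatorElement_def, mul_assoc]
    rw [h]
    exact CfsgLib.ExtraspecialBasic.commutator_mem_center hE _ _
  refine (Subgroup.eq_of_le_of_card_ge hle ?_).symm
  -- a kernel element is determined by its values on preimages of the unit vectors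
  choose x hx using fun i : ι => C.surj (Pi.single i 1)
  let f : C.isoHom.ker → ι → Subgroup.center E := fun α i =>
    ⟨(x i)⁻¹ * (α : MulAut E) (x i), (C.mem_ker_iff _).1 α.2 (x i)⟩
  have hf : Function.Injective f := by
    intro α β h
    refine Subtype.ext ?_
    have hZ : ∀ w ∈ Subgroup.center E, ∀ γ : MulAut E, γ w = w := by
      intro w hw γ
      by_cases hw1 : w = 1
      · rw [hw1, _root_.map_one]
      have h2 : γ w ∈ Subgroup.center E := by
        rw [← Subgroup.Characteristic.fixed (H := Subgroup.center E) inferInstance γ] at hw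
        exact hw
      obtain ⟨a, ha⟩ := (Nat.card_eq_two_iff' (⟨1, one_mem _⟩ : Subgroup.center E)).1 hE.2
      have e1 := ha.2 ⟨w, hw⟩ (fun he => hw1 (congrArg Subtype.val he))
      have e2 := ha.2 ⟨γ w, h2⟩ (fun he => hw1 (γ.injective (by
        rw [_root_.map_one]; exact congrArg Subtype.val he)))
      exact congrArg Subtype.val (e2.trans e1.symm)
    let K : Subgroup E := MonoidHom.eqLocus (α : MulAut E).toMonoidHom (β : MulAut E).toMonoidHom
    have hxK : ∀ i, x i ∈ K := fun i =>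
      mul_left_cancel (congrArg Subtype.val (congrFun h i))
    have hall : ∀ v : ι → ZMod 2, ∃ y ∈ K, C.π y = v := by
      intro v
      have hv : v = ∑ i, Pi.single i (v i) := (Finset.univ_sum_single v).symm
      rw [hv]
      refine Finset.sum_induction _ (fun w => ∃ y ∈ K, C.π y = w) ?_ ⟨1, one_mem _, C.map_one⟩ ?_
      · rintro _ _ ⟨y, hy, rfl⟩ ⟨y', hy', rfl⟩
        exact ⟨y * y', mul_mem hy hy', C.map_mul _ _⟩
      · intro i _
        rcases zmod_two_cases (v i) with e | e
        · exact ⟨1, one_mem _, by rw [e, Pi.single_zero, C.map_one]⟩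
        · exact ⟨x i, hxK i, by rw [e, hx i]⟩
    refine MulEquiv.ext fun g => ?_
    obtain ⟨y, hy, hyg⟩ := hall (C.π g)
    have hw := C.eq_iff.1 hyg
    calc (α : MulAut E) g = (α : MulAut E) (y * (y⁻¹ * g)) := by rw [mul_inv_cancel_left]
      _ = (β : MulAut E) y * (y⁻¹ * g) := by
          rw [_root_.map_mul (α : MulAut E) y (y⁻¹ * g), hZ _ hw]
          exact congrArg (· * _) hy
      _ = (β : MulAut E) (y * (y⁻¹ * g)) := by
          rw [_root_.map_mul (β : MulAut E) y (y⁻¹ * g), hZ _ hw]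
      _ = (β : MulAut E) g := by rw [mul_inv_cancel_left]
  have h1 := Nat.card_le_card_of_injective f hf
  rw [Nat.card_fun, hE.2] at h1
  have h2 : Nat.card (Cfsg.Inn E) = (Subgroup.center E).index := by
    rw [← Subgroup.index_ker, show (MulAut.conj : E →* MulAut E).ker = Subgroup.center E from ?_]
    ext g
    rw [MonoidHom.mem_ker, Subgroup.mem_center_iff]
    constructor
    · intro hg y
      have := DFunLike.congr_fun hg y
      simp only [MulAut.conj_apply, MulAut.one_apply] at this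
      exact (mul_inv_eq_iff_eq_mul.1 this).symm
    · intro hg
      refine MulEquiv.ext fun y => ?_
      simp only [MulAut.conj_apply, MulAut.one_apply]
      rw [← hg y, mul_inv_cancel_right]
  have h3 : (Subgroup.center E).index = Nat.card (ι → ZMod 2) := by
    rw [Subgroup.index_eq_card]
    refine Nat.card_congr (Equiv.ofBijective
      (Quotient.lift C.π fun a b hab => C.eq_iff.2 (QuotientGroup.leftRel_apply.1 hab)) ⟨?_, ?_⟩)
    · intro a b
      refine Quotient.inductionOn₂ a b fun a b hab => Quotient.sound ?_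
      exact QuotientGroup.leftRel_apply.2 (C.eq_iff.1 hab)
    · intro v
      obtain ⟨g, rfl⟩ := C.surj v
      exact ⟨Quotient.mk'' g, rfl⟩
  rw [h2, h3, Nat.card_fun, Nat.card_zmod]
  exact h1

theorem isoHom_surjective [Finite E] (hE : Cfsg.IsExtraspecial 2 E) :
    Function.Surjective C.isoHom := by
  classical
  haveI : Fact (Nat.Prime 2) := ⟨Nat.prime_two⟩
  rintro ⟨A, hA⟩
  set f : (ι → ZMod 2) → (ι → ZMod 2) := fun v => (A : Matrix ι ι (ZMod 2)).mulVec v with hf
  have hf0 : f 0 = 0 := Matrix.mulVec_zero _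
  have hfadd : ∀ v w, f (v + w) = f v + f w := fun v w => Matrix.mulVec_add _ _ _
  have hfinj : Function.Injective f := Matrix.mulVec_injective_iff_isUnit.2 A.isUnit
  have hfsurj : Function.Surjective f := Finite.injective_iff_surjective.1 hfinj
  obtain ⟨zc, hz1, hzu⟩ := (Nat.card_eq_two_iff' (⟨1, one_mem _⟩ : Subgroup.center E)).1 hE.2
  set z : E := (zc : E) with hzdef
  have hzne : z ≠ 1 := fun h => hz1 (Subtype.ext h)
  have hzc : ∀ w ∈ Subgroup.center E, w = 1 ∨ w = z := fun w hw => by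
    by_cases h : w = 1
    · exact Or.inl h
    · exact Or.inr (congrArg Subtype.val (hzu ⟨w, hw⟩ fun e => h (congrArg Subtype.val e)))
  have hzz : z * z = 1 := by
    rw [← pow_two]; exact CfsgLib.ExtraspecialBasic.pow_center_eq_one hE zc.2
  let D : Subgroup (E × E) :=
    { carrier := {d | C.π d.2 = f (C.π d.1)}
      one_mem' := by
        show C.π 1 = f (C.π 1)
        rw [C.map_one, hf0]
      mul_mem' := fun {a b} (ha : C.π a.2 = _) (hb : C.π b.2 = _) => by
        show C.π (a.2 * b.2) = f (C.π (a.1 * b.1))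
        rw [C.map_mul, C.map_mul, hfadd, ha, hb]
      inv_mem' := fun {a} (ha : C.π a.2 = _) => by
        show C.π a.2⁻¹ = f (C.π a.1⁻¹)
        rw [C.map_inv, C.map_inv, ha] }
  have hDc : ∀ d ∈ D, d.1 ∈ Subgroup.center E → d.2 ∈ Subgroup.center E := by
    intro d hd h
    rw [← C.ker, show C.π d.2 = f (C.π d.1) from hd, (C.ker _).2 h, hf0]
  -- squares lie in the diagonal of the centre
  let N : Subgroup (E × E) := Subgroup.zpowers (z, z)
  have hNmem : ∀ d ∈ D, d ^ 2 ∈ N := by
    intro d hd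
    have h1 := C.quad d.1
    have h2 := C.quad d.2
    rw [show C.π d.2 = f (C.π d.1) from hd, show Q (f (C.π d.1)) = Q (C.π d.1) from hA _ (C.π d.1),
      h1] at h2
    have hc : ∀ x : E, x ^ 2 ∈ Subgroup.center E := CfsgLib.ExtraspecialBasic.pow_mem_center hE
    rcases hzc _ (hc d.1) with e | e
    · have e2 : d ^ 2 = 1 := Prod.ext e (h2.1 e)
      rw [e2]; exact one_mem _
    · have e2 : d ^ 2 = (z, z) := Prod.ext e ((hzc _ (hc d.2)).resolve_left fun e' => hzne (by
        rw [← e]; exact h2.2 e'))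
      rw [e2]; exact Subgroup.mem_zpowers _
  have hzD : ∀ a b : E, a ∈ Subgroup.center E → b ∈ Subgroup.center E → (a, b) ∈ D := by
    intro a b ha hb
    show C.π b = f (C.π a)
    rw [(C.ker a).2 ha, (C.ker b).2 hb, hf0]
  have hz1N : ((z, 1) : E × E) ∉ N := by
    intro h
    obtain ⟨k, hk⟩ := Subgroup.mem_zpowers_iff.1 h
    have e1 : z ^ k = z := congrArg Prod.fst hk
    have e2 : z ^ k = 1 := congrArg Prod.snd hk
    exact hzne (e1.symm.trans e2)
  obtain ⟨Δ, ⟨⟨hNΔ, hΔD, hzΔ⟩, hmax⟩⟩ :=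
    (Set.toFinite {Δ : Subgroup (E × E) | N ≤ Δ ∧ Δ ≤ D ∧ ((z, 1) : E × E) ∉ Δ}).exists_maximal
      ⟨N, le_rfl, Subgroup.zpowers_le.2 (hzD z z zc.2 zc.2), hz1N⟩
  have hzzΔ : ((z, z) : E × E) ∈ Δ := hNΔ (Subgroup.mem_zpowers _)
  have hcommN : ∀ a ∈ D, ∀ b ∈ D, a * b * a⁻¹ * b⁻¹ ∈ N := by
    intro a ha b hb
    have h : a * b * a⁻¹ * b⁻¹ = a ^ 2 * (a⁻¹ * b) ^ 2 * (b⁻¹) ^ 2 := by
      simp only [pow_two]; group
    rw [h]
    exact mul_mem (mul_mem (hNmem _ ha) (hNmem _ (mul_mem (inv_mem ha) hb)))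
      (hNmem _ (inv_mem hb))
  have hsplit : ∀ d ∈ D, d ∈ Δ ∨ (z, 1) * d ∈ Δ := by
    intro d hd
    by_contra hcon
    push Not at hcon
    have hconj : ∀ s ∈ Δ, d * s * d⁻¹ ∈ Δ := fun s hs => by
      have := mul_mem (hNΔ (hcommN d hd s (hΔD hs))) hs
      rwa [inv_mul_cancel_right] at this
    have hd2 : d * d ∈ Δ := hNΔ (by rw [← pow_two]; exact hNmem d hd)
    have hds : ∀ s ∈ Δ, d⁻¹ * s * d ∈ Δ := fun s hs => by
      have e : d⁻¹ * s * d = (d * d)⁻¹ * (d * s * d⁻¹) * (d * d) := by group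
      rw [e]
      exact mul_mem (mul_mem (inv_mem hd2) (hconj s hs)) hd2
    let Δ' : Subgroup (E × E) :=
      { carrier := {s | s ∈ Δ ∨ s * d ∈ Δ}
        one_mem' := Or.inl (one_mem _)
        mul_mem' := by
          rintro s t (hs | hs) (ht | ht)
          · exact Or.inl (mul_mem hs ht)
          · exact Or.inr (by rw [mul_assoc]; exact mul_mem hs ht)
          · exact Or.inr (by
              have e : s * t * d = s * d * (d⁻¹ * t * d) := by group
              rw [e]; exact mul_mem hs (hds t ht))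
          · exact Or.inl (by
              have e : s * t = s * d * (d⁻¹ * (t * d) * d) * (d * d)⁻¹ := by group
              rw [e]; exact mul_mem (mul_mem hs (hds _ ht)) (inv_mem hd2))
        inv_mem' := by
          rintro s (hs | hs)
          · exact Or.inl (inv_mem hs)
          · refine Or.inr ?_
            have e : s⁻¹ * d = d * (s * d)⁻¹ * d⁻¹ * (d * d) := by group
            rw [e]; exact mul_mem (hconj _ (inv_mem hs)) hd2 }
    have hmem : d ∈ Δ' := Or.inr hd2
    refine hcon.1 (hmax ⟨hNΔ.trans fun s hs => Or.inl hs, ?_, ?_⟩ (fun s hs => Or.inl hs) hmem)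
    · rintro s (hs | hs)
      · exact hΔD hs
      · simpa using mul_mem (hΔD hs) (inv_mem hd)
    · rintro (hs | hs)
      · exact hzΔ hs
      · exact hcon.2 hs
  let p1 : Δ →* E := (MonoidHom.fst E E).comp Δ.subtype
  let p2 : Δ →* E := (MonoidHom.snd E E).comp Δ.subtype
  have hp1i : Function.Injective p1 := by
    rw [injective_iff_map_eq_one]
    rintro ⟨⟨a, b⟩, hd⟩ (h : a = 1)
    subst h
    rcases hzc b (hDc _ (hΔD hd) (one_mem _)) with rfl | rfl
    · rfl
    · refine absurd ?_ hzΔ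
      have := mul_mem hd hzzΔ
      simpa [hzz] using this
  have hp2i : Function.Injective p2 := by
    rw [injective_iff_map_eq_one]
    rintro ⟨⟨a, b⟩, hd⟩ (h : b = 1)
    subst h
    have hd' : C.π (1 : E) = f (C.π a) := hΔD hd
    rw [C.map_one, ← hf0] at hd'
    rcases hzc a ((C.ker a).1 (hfinj hd').symm) with rfl | rfl
    · rfl
    · exact absurd hd hzΔ
  have hp1s : Function.Surjective p1 := by
    intro a
    obtain ⟨b, hb⟩ := C.surj (f (C.π a))
    rcases hsplit (a, b) hb with h | h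
    · exact ⟨⟨_, h⟩, rfl⟩
    · refine ⟨⟨_, mul_mem hzzΔ h⟩, ?_⟩
      show z * (z * a) = a
      rw [← mul_assoc, hzz, one_mul]
  have hp2s : Function.Surjective p2 := by
    intro b
    obtain ⟨v, hv⟩ := hfsurj (C.π b)
    obtain ⟨a, ha⟩ := C.surj v
    rcases hsplit (a, b) (show C.π b = f (C.π a) by rw [ha, hv]) with h | h
    · exact ⟨⟨_, h⟩, rfl⟩
    · exact ⟨⟨_, h⟩, one_mul b⟩
  let α : MulAut E := (MulEquiv.ofBijective p1 ⟨hp1i, hp1s⟩).symm.trans
    (MulEquiv.ofBijective p2 ⟨hp2i, hp2s⟩)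
  refine ⟨α, Subtype.ext (Units.ext (Matrix.ext_iff_mulVec.2 fun v => ?_))⟩
  obtain ⟨a, rfl⟩ := C.surj v
  show ((C.matHom α : GL ι (ZMod 2)) : Matrix ι ι (ZMod 2)).mulVec (C.π a) = f (C.π a)
  rw [C.matHom_mulVec, C.lin_apply]
  obtain ⟨d, rfl⟩ := hp1s a
  have : α (p1 d) = p2 d := by
    show p2 ((MulEquiv.ofBijective p1 ⟨hp1i, hp1s⟩).symm (p1 d)) = p2 d
    rw [show (MulEquiv.ofBijective p1 ⟨hp1i, hp1s⟩).symm (p1 d) = d from
      (MulEquiv.ofBijective p1 ⟨hp1i, hp1s⟩).symm_apply_apply d]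
  rw [this]
  exact hΔD d.2

include C in
/-- `Out E` is the isometry group. -/
theorem nonempty_out_equiv [Finite E] (hE : Cfsg.IsExtraspecial 2 E) :
    Nonempty (Cfsg.Out E ≃* Cfsg.isometryGroup (ZMod 2) Q) :=
  haveI : (Cfsg.Inn E).Normal := C.ker_eq hE ▸ (inferInstance : C.isoHom.ker.Normal)
  ⟨(QuotientGroup.quotientMulEquivOfEq (C.ker_eq hE).symm).trans
    (QuotientGroup.quotientKerEquivOfSurjective _ (C.isoHom_surjective hE))⟩

end Cover

end CfsgLib.ExtraspecialOut
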